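import Mathlib

/-!
# Strictly perfect complexes relative to a liftable subcategory
-/

set_option autoImplicit false
set_option linter.style.haveILetI false

universe w v u

open CategoryTheory CategoryTheory.Limits CategoryTheory.Pretriangulated HomologicalComplex

namespace PStrictLib

variable {C : Type u} [Category.{v} C] [Abelian C] (P : ObjectProperty C)

/-- The hypotheses on the subcategory. -/
structure Hyp : Prop where
  sum : ∀ X Y : C, P X → P Y → P (X ⨯ Y)
  lift : ∀ (E F : C) (u : E ⟶ F), Epi u → P F → IsSplitEpi u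
  stable : ∀ (E F : C) (u : E ⟶ F), Epi u → P E → P F → P (kernel u)

/-- Strictly perfect, vanishing outside `[a, b]`. -/
def Strict (a b : ℤ) (E : CochainComplex C ℤ) : Prop :=
  (∀ i : ℤ, P (E.X i)) ∧ ∀ i : ℤ, i < a ∨ b < i → IsZero (E.X i)

variable {P}

theorem Hyp.projective (h : Hyp P) {X : C} (hX : P X) : Projective X where
  factors {E F} f p _ := by
    haveI := h.lift _ _ (pullback.fst f p) inferInstance hX
    exact ⟨section_ (pullback.fst f p) ≫ pullback.snd f p, by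
      rw [Category.assoc, ← pullback.condition, IsSplitEpi.id_assoc]⟩

variable [P.IsClosedUnderIsomorphisms]

theorem Hyp.biprod (h : Hyp P) {X Y : C} (hX : P X) (hY : P Y) : P (X ⊞ Y) :=
  P.prop_of_iso (biprod.isoProd X Y).symm (h.sum X Y hX hY)

theorem Hyp.of_isZero [P.ContainsZero] {X : C} (hX : IsZero X) : P X :=
  P.prop_of_isZero hX

theorem Strict.isKProjective (h : Hyp P) {a b : ℤ} {E : CochainComplex C ℤ} (hE : Strict P a b E) :
    E.IsKProjective := by
  haveI : E.IsStrictlyLE b := by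
    rw [CochainComplex.isStrictlyLE_iff]
    exact fun i hi => hE.2 i (Or.inr hi)
  haveI : ∀ n, Projective (E.X n) := fun n => h.projective (hE.1 n)
  exact CochainComplex.isKProjective_of_projective E b

theorem Strict.cone (h : Hyp P) {a b a' b' : ℤ} {E F : CochainComplex C ℤ} (hE : Strict P a b E)
    (hF : Strict P a' b' F) (φ : E ⟶ F) (a'' b'' : ℤ) (h₁ : a'' ≤ a - 1) (h₂ : a'' ≤ a')
    (h₃ : b - 1 ≤ b'') (h₄ : b' ≤ b'') : Strict P a'' b'' (CochainComplex.mappingCone φ) := by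
  refine ⟨fun i => P.prop_of_iso (homotopyCofiber.XIsoBiprod φ i (i + 1) rfl).symm
    (h.biprod (hE.1 _) (hF.1 _)), fun i hi => ?_⟩
  refine IsZero.of_iso ?_ (homotopyCofiber.XIsoBiprod φ i (i + 1) rfl)
  exact (biprod_isZero_iff _ _).2 ⟨hE.2 _ (by omega), hF.2 _ (by omega)⟩

/-- The kernel of the map to cycles. -/
theorem kernel_toCycles_iso (K : CochainComplex C ℤ) (i : ℤ) :
    Nonempty (kernel (K.toCycles i (i + 1)) ≅ K.cycles i) :=
  ⟨(kernelCompMono (K.toCycles i (i + 1)) (K.iCycles (i + 1))).symm ≪≫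
    kernelIsoOfEq (K.toCycles_i i (i + 1)) ≪≫
      (kernelIsKernel (K.d i (i + 1))).conePointUniqueUpToIso
        (K.cyclesIsKernel i (i + 1) (by simp))⟩

theorem isZero_cycles {K : CochainComplex C ℤ} {i : ℤ} (h : IsZero (K.X i)) :
    IsZero (K.cycles i) :=
  IsZero.of_mono (K.iCycles i) h

theorem epi_toCycles {K : CochainComplex C ℤ} (i : ℤ) (h : IsZero (K.homology (i + 1))) :
    Epi (K.toCycles i (i + 1)) :=
  Preadditive.epi_of_isZero_cokernel' _ (K.homologyIsCokernel i (i + 1) (by simp)) h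

theorem cycles_mem [P.ContainsZero] (h : Hyp P) (K : CochainComplex C ℤ) (m c : ℤ)
    (hP : ∀ i, m ≤ i → P (K.X i)) (hz : ∀ i, c < i → IsZero (K.X i))
    (hcoh : ∀ i, m < i → IsZero (K.homology i)) (i : ℤ) (hi : m ≤ i) : P (K.cycles i) := by
  suffices ∀ (k : ℕ) (i : ℤ), m ≤ i → c < i + k → P (K.cycles i) from
    this (c + 1 - i).toNat i hi (by omega)
  intro k
  induction k with
  | zero => exact fun i _ hi => P.prop_of_isZero (isZero_cycles (hz i (by simpa using hi)))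
  | succ k ih =>
    intro i hi hk
    haveI := epi_toCycles (K := K) i (hcoh _ (by omega))
    obtain ⟨e⟩ := kernel_toCycles_iso K i
    exact P.prop_of_iso e (h.stable _ _ _ this (hP i hi) (ih (i + 1) (by omega) (by push_cast at hk ⊢; omega)))

section Derived

variable [HasDerivedCategory.{w} C]

/-- Perfect amplitude in `[a, b]`. -/
def Amp (P : ObjectProperty C) (a b : ℤ) (X : DerivedCategory C) : Prop :=
  ∃ E : CochainComplex C ℤ, Strict P a b E ∧ Nonempty (DerivedCategory.Q.obj E ≅ X)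

theorem exists_map (h : Hyp P) {a b : ℤ} {E F : CochainComplex C ℤ} (hE : Strict P a b E)
    (f : DerivedCategory.Q.obj E ⟶ DerivedCategory.Q.obj F) :
    ∃ φ : E ⟶ F, DerivedCategory.Q.map φ = f := by
  haveI := hE.isKProjective h
  obtain ⟨g, hg⟩ := (CochainComplex.IsKProjective.Qh_map_bijective E _).surjective
    ((DerivedCategory.quotientCompQhIso C).hom.app E ≫ f ≫
      (DerivedCategory.quotientCompQhIso C).inv.app F)
  obtain ⟨φ, rfl⟩ := (HomotopyCategory.quotient C (.up ℤ)).map_surjective g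
  refine ⟨φ, ?_⟩
  rw [← NatIso.naturality_1 (DerivedCategory.quotientCompQhIso C) φ]
  simp [hg]

omit [P.IsClosedUnderIsomorphisms] in
theorem Amp.of_iso {a b : ℤ} {X Y : DerivedCategory C} (hX : Amp P a b X) (e : X ≅ Y) :
    Amp P a b Y := by
  obtain ⟨E, hE, ⟨e'⟩⟩ := hX
  exact ⟨E, hE, ⟨e' ≪≫ e⟩⟩

theorem Amp.cone (h : Hyp P) {a b a' b' : ℤ} (T : Triangle (DerivedCategory C))
    (hT : T ∈ distinguishedTriangles) (h₁ : Amp P a b T.obj₁) (h₂ : Amp P a' b' T.obj₂)
    (a'' b'' : ℤ) (i₁ : a'' ≤ a - 1) (i₂ : a'' ≤ a') (i₃ : b - 1 ≤ b'') (i₄ : b' ≤ b'') :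
    Amp P a'' b'' T.obj₃ := by
  obtain ⟨E, hE, ⟨e₁⟩⟩ := h₁
  obtain ⟨F, hF, ⟨e₂⟩⟩ := h₂
  obtain ⟨φ, hφ⟩ := exists_map h hE (e₁.hom ≫ T.mor₁ ≫ e₂.inv)
  refine ⟨_, hE.cone h hF φ a'' b'' i₁ i₂ i₃ i₄, ⟨Triangle.π₃.mapIso
    (isoTriangleOfIso₁₂ _ _ (DerivedCategory.mappingCone_triangle_distinguished φ) hT e₁ e₂ ?_)⟩⟩
  change DerivedCategory.Q.map φ ≫ e₂.hom = e₁.hom ≫ T.mor₁
  rw [hφ]; simp

theorem Amp.biprod [P.ContainsZero] (h : Hyp P) {a b : ℤ} {X Y : DerivedCategory C}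
    (hX : Amp P a b X) (hY : Amp P a b Y) : Amp P a b (X ⊞ Y) := by
  obtain ⟨E, hE, ⟨e₁⟩⟩ := hX
  obtain ⟨F, hF, ⟨e₂⟩⟩ := hY
  refine ⟨E ⊞ F, ⟨fun i => P.prop_of_iso (biprodXIso E F i).symm
    (h.biprod (hE.1 i) (hF.1 i)), fun i hi => IsZero.of_iso
      ((biprod_isZero_iff _ _).2 ⟨hE.2 i hi, hF.2 i hi⟩) (biprodXIso E F i)⟩, ⟨?_⟩⟩
  haveI := preservesBinaryBiproducts_of_preservesBiproducts (DerivedCategory.Q (C := C))
  exact (DerivedCategory.Q (C := C)).mapBiprod E F ≪≫ biprod.mapIso e₁ e₂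

theorem Amp.shift {a b : ℤ} {X : DerivedCategory C} (hX : Amp P a b X) (n a' b' : ℤ)
    (ha : n + a' = a) (hb : n + b' = b) :
    Amp P a' b' ((shiftFunctor (DerivedCategory C) n).obj X) := by
  obtain ⟨E, hE, ⟨e⟩⟩ := hX
  refine ⟨(shiftFunctor (CochainComplex C ℤ) n).obj E, ⟨fun i => ?_, fun i hi => ?_⟩,
    ⟨((DerivedCategory.Q (C := C)).commShiftIso n).app E ≪≫
      (shiftFunctor (DerivedCategory C) n).mapIso e⟩⟩
  · exact P.prop_of_iso (E.shiftFunctorObjXIso n i (i + n) rfl).symm (hE.1 _)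
  · exact IsZero.of_iso (hE.2 (i + n) (by omega)) (E.shiftFunctorObjXIso n i (i + n) rfl)

theorem homology_iso {E : CochainComplex C ℤ} {X : DerivedCategory C}
    (e : DerivedCategory.Q.obj E ≅ X) (i : ℤ) :
    Nonempty ((DerivedCategory.homologyFunctor C i).obj X ≅ E.homology i) :=
  ⟨(DerivedCategory.homologyFunctor C i).mapIso e.symm ≪≫
    (DerivedCategory.homologyFunctorFactors C i).app E⟩

theorem Amp.isZero_homology {a b : ℤ} {X : DerivedCategory C} (hX : Amp P a b X) (i : ℤ)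
    (hi : i < a ∨ b < i) : IsZero ((DerivedCategory.homologyFunctor C i).obj X) := by
  obtain ⟨E, hE, ⟨e⟩⟩ := hX
  obtain ⟨e'⟩ := homology_iso e i
  exact IsZero.of_iso ((ShortComplex.exact_iff_isZero_homology _).1
    ((E.sc i).exact_of_isZero_X₂ (hE.2 i hi))) e'

/-- Truncation of a strictly perfect complex. -/
theorem exists_trunc [P.ContainsZero] (h : Hyp P) {a c : ℤ} (b : ℤ) (hab : a ≤ b)
    {F : CochainComplex C ℤ} (hF : Strict P a c F)
    (hcoh : ∀ i : ℤ, b < i → IsZero (F.homology i)) :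
    ∃ F' : CochainComplex C ℤ, Strict P a (min b c) F' ∧
      Nonempty (DerivedCategory.Q.obj F' ≅ DerivedCategory.Q.obj F) := by
  by_cases hbc : c ≤ b
  · exact ⟨F, by rwa [min_eq_right hbc], ⟨Iso.refl _⟩⟩
  rw [min_eq_left (by omega)]
  haveI : F.IsLE b := by
    rw [CochainComplex.isLE_iff]
    exact fun i hi => (HomologicalComplex.exactAt_iff_isZero_homology _ _).2 (hcoh i hi)
  haveI : IsIso (DerivedCategory.Q.map (F.ιTruncLE b)) :=
    (DerivedCategory.isIso_Q_map_iff_quasiIso C _).2 inferInstance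
  refine ⟨F.truncLE b, ⟨fun i => ?_, fun i hi => ?_⟩, ⟨asIso (DerivedCategory.Q.map (F.ιTruncLE b))⟩⟩
  · rcases lt_trichotomy i b with hib | rfl | hib
    · exact P.prop_of_iso (F.truncLEXIso b i hib).symm (hF.1 i)
    · exact P.prop_of_iso (F.truncLEXIsoCycles i).symm
        (cycles_mem h F i c (fun j _ => hF.1 j) (fun j hj => hF.2 j (Or.inr hj)) hcoh i le_rfl)
    · exact P.prop_of_isZero (CochainComplex.isZero_of_isStrictlyLE _ b i hib)
  · rcases hi with hi | hi
    · exact IsZero.of_iso (hF.2 i (Or.inl hi)) (F.truncLEXIso b i (by omega))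
    · exact CochainComplex.isZero_of_isStrictlyLE _ b i hi

/-- The first term of a complex of perfect amplitude. -/
theorem first_term_mem [P.ContainsZero] (h : Hyp P) (a b : ℤ) (F : CochainComplex C ℤ)
    (hvan : ∀ i : ℤ, i < a ∨ b < i → IsZero (F.X i)) (hP : ∀ i : ℤ, a < i → P (F.X i))
    {E : CochainComplex C ℤ} (hE : Strict P a b E)
    (e : DerivedCategory.Q.obj E ≅ DerivedCategory.Q.obj F) : P (F.X a) := by
  obtain ⟨φ, hφ⟩ := exists_map h hE e.hom
  haveI : IsIso (DerivedCategory.Q.map φ) := hφ ▸ inferInstance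
  let K := CochainComplex.mappingCone φ
  have hK : ∀ i, IsZero (K.homology i) := fun i => by
    have hz : IsZero (DerivedCategory.Q.obj K) :=
      (Triangle.isZero₃_iff_isIso₁ _ (DerivedCategory.mappingCone_triangle_distinguished φ)).2
        (inferInstanceAs (IsIso (DerivedCategory.Q.map φ)))
    obtain ⟨e'⟩ := homology_iso (Iso.refl (DerivedCategory.Q.obj K)) i
    exact IsZero.of_iso ((DerivedCategory.homologyFunctor C i).map_isZero hz) e'.symm
  let eK : ∀ i, K.X i ≅ E.X (i + 1) ⊞ F.X i := fun i =>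
    homotopyCofiber.XIsoBiprod φ i (i + 1) rfl
  have hz₁ : P (K.cycles (a + 1)) :=
    cycles_mem h K (a + 1) b (fun i hi => P.prop_of_iso (eK i).symm
        (h.biprod (hE.1 _) (hP i (by omega))))
      (fun i hi => IsZero.of_iso
        ((biprod_isZero_iff _ _).2 ⟨hE.2 _ (by omega), hvan i (by omega)⟩) (eK i))
      (fun i _ => hK i) _ le_rfl
  -- cycles in degree `a`
  have hzero : ∀ i, i ≤ a - 2 → IsZero (K.X i) := fun i hi =>
    IsZero.of_iso ((biprod_isZero_iff _ _).2 ⟨hE.2 _ (by omega), hvan i (by omega)⟩) (eK i)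
  haveI h2 : Epi (K.toCycles (a - 1) (a - 1 + 1)) := epi_toCycles _ (hK _)
  haveI h1 : Mono (K.toCycles (a - 1) (a - 1 + 1)) := by
    apply Preadditive.mono_of_isZero_kernel
    obtain ⟨e'⟩ := kernel_toCycles_iso K (a - 1)
    refine IsZero.of_iso ?_ e'
    haveI := epi_toCycles (K := K) (a - 2) (hK _)
    have : IsZero (K.cycles (a - 2 + 1)) :=
      IsZero.of_epi (K.toCycles (a - 2) (a - 2 + 1)) (hzero _ le_rfl)
    rwa [show a - 2 + 1 = a - 1 by ring] at this
  haveI : IsIso (K.toCycles (a - 1) (a - 1 + 1)) := isIso_of_mono_of_epi _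
  have hz₀ : P (K.cycles a) := by
    have hX : P (K.X (a - 1)) := by
      refine P.prop_of_iso (eK _).symm (h.biprod (hE.1 _) (P.prop_of_isZero (hvan _ (by omega))))
    have := P.prop_of_iso (asIso (K.toCycles (a - 1) (a - 1 + 1))) hX
    rwa [show a - 1 + 1 = a by ring] at this
  -- split in degree `a`
  haveI := epi_toCycles (K := K) a (hK _)
  haveI := h.lift _ _ (K.toCycles a (a + 1)) inferInstance hz₁
  obtain ⟨e'⟩ := kernel_toCycles_iso K a
  have hsplit : K.X a ≅ kernel (K.toCycles a (a + 1)) ⊞ K.cycles (a + 1) :=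
    (ShortComplex.Splitting.ofExactOfSection
      (ShortComplex.mk _ _ (kernel.condition (K.toCycles a (a + 1))))
      (ShortComplex.exact_of_f_is_kernel _ (kernelIsKernel _))
      (section_ (K.toCycles a (a + 1))) (IsSplitEpi.id _) inferInstance).isoBinaryBiproduct
  have hXa : P (E.X (a + 1) ⊞ F.X a) :=
    P.prop_of_iso (hsplit.symm ≪≫ eK a) (h.biprod (P.prop_of_iso e'.symm hz₀) hz₁)
  exact P.prop_of_iso (kernelBiprodFstIso (X := E.X (a + 1)) (Y := F.X a))
    (h.stable _ _ (biprod.fst : E.X (a + 1) ⊞ F.X a ⟶ _) inferInstance hXa (hE.1 _))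

end Derived

end PStrictLib
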