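import Mathlib
import Groth.Agent.PStrictLib.Basic

/-!
# Retracts of objects of given perfect amplitude
-/

set_option autoImplicit false
set_option linter.style.haveILetI false

universe w v u

open CategoryTheory CategoryTheory.Limits CategoryTheory.Pretriangulated HomologicalComplex

namespace PStrictLib

variable {C : Type u} [Category.{v} C] [Abelian C] {P : ObjectProperty C}
  [P.IsClosedUnderIsomorphisms] [P.ContainsZero]

theorem mem_of_retract
    (hdir : ∀ (E' E'' : C) [HasBinaryBiproduct E' E''], P (E' ⊞ E'') → P E' ∧ P E'')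
    {Y X : C} (i : Y ⟶ X) (r : X ⟶ Y) (hir : i ≫ r = 𝟙 Y) (hX : P X) : P Y := by
  let e : Y ⊞ kernel r ≅ X :=
    { hom := biprod.desc i (kernel.ι r)
      inv := biprod.lift r (kernel.lift r (𝟙 X - r ≫ i) (by simp [hir]))
      hom_inv_id := by
        apply biprod.hom_ext' <;> apply biprod.hom_ext <;> simp [hir]
        · rw [← cancel_mono (kernel.ι r)]; simp [reassoc_of% hir]
        · rw [← cancel_mono (kernel.ι r)]; simp
      inv_hom_id := by simp }
  exact (hdir Y (kernel r) (P.prop_of_iso e.symm hX)).1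

variable [HasDerivedCategory.{w} C]

theorem amp_single (b : ℤ) {E₀ : C} (hE₀ : P E₀) :
    Amp P b b (DerivedCategory.Q.obj
      ((HomologicalComplex.single C (ComplexShape.up ℤ) b).obj E₀)) := by
  refine ⟨_, ⟨fun i => ?_, fun i hi => ?_⟩, ⟨Iso.refl _⟩⟩
  · by_cases hi : i = b
    · subst hi; exact P.prop_of_iso (singleObjXSelf _ i E₀).symm hE₀
    · exact P.prop_of_isZero (isZero_single_obj_X _ _ _ _ hi)
  · exact isZero_single_obj_X _ _ _ _ (by omega)

theorem exists_single_iso (X : DerivedCategory C) (a : ℤ)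
    (hX : ∀ i, i ≠ a → IsZero ((DerivedCategory.homologyFunctor C i).obj X)) :
    Nonempty (DerivedCategory.Q.obj ((HomologicalComplex.single C (ComplexShape.up ℤ) a).obj
      ((DerivedCategory.homologyFunctor C a).obj X)) ≅ X) := by
  haveI : X.IsGE a := (DerivedCategory.isGE_iff X a).2 fun i hi => hX i (by omega)
  haveI : X.IsLE a := (DerivedCategory.isLE_iff X a).2 fun i hi => hX i (by omega)
  obtain ⟨Y, ⟨e⟩⟩ := DerivedCategory.exists_iso_singleFunctor_obj_of_isGE_of_isLE X a
  let e₁ : X ≅ DerivedCategory.Q.obj ((HomologicalComplex.single C (ComplexShape.up ℤ) a).obj Y) :=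
    e ≪≫ (DerivedCategory.singleFunctorIsoCompQ C a).app Y
  obtain ⟨e₂⟩ := homology_iso e₁.symm a
  let e₃ : (DerivedCategory.homologyFunctor C a).obj X ≅ Y :=
    e₂ ≪≫ singleObjHomologySelfIso (ComplexShape.up ℤ) a Y
  exact ⟨DerivedCategory.Q.mapIso ((HomologicalComplex.single C (ComplexShape.up ℤ) a).mapIso e₃)
    ≪≫ e₁.symm⟩

theorem Amp.of_retract (h : Hyp P)
    (hdir : ∀ (E' E'' : C) [HasBinaryBiproduct E' E''], P (E' ⊞ E'') → P E' ∧ P E'') :
    ∀ (n : ℕ) (a b : ℤ), a + n = b → ∀ (X Y : DerivedCategory C) (i : X ⟶ Y) (r : Y ⟶ X),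
      i ≫ r = 𝟙 X → Amp P a b Y → Amp P a b X := by
  intro n
  induction n with
  | zero =>
    intro a b hab X Y i r hir hY
    obtain rfl : a = b := by simpa using hab
    have hzero : ∀ j, j ≠ a → IsZero ((DerivedCategory.homologyFunctor C j).obj X) := fun j hj => by
      haveI : IsSplitMono ((DerivedCategory.homologyFunctor C j).map i) :=
        IsSplitMono.mk' ⟨(DerivedCategory.homologyFunctor C j).map r,
          by rw [← Functor.map_comp, hir, CategoryTheory.Functor.map_id]⟩
      exact IsZero.of_mono ((DerivedCategory.homologyFunctor C j).map i)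
        (hY.isZero_homology j (by omega))
    obtain ⟨E, hE, ⟨e⟩⟩ := hY
    obtain ⟨e'⟩ := homology_iso e a
    have hd : ∀ j k, E.d j k = 0 := fun j k => by
      by_cases hj : j = a
      · by_cases hk : k = a
        · exact E.shape j k (by simp; omega)
        · exact (hE.2 k (by omega)).eq_of_tgt _ _
      · exact (hE.2 j (by omega)).eq_of_src _ _
    have hH : P (E.homology a) := by
      haveI := E.isIso_iCycles a (a + 1) (by simp) (hd _ _)
      haveI := E.isIso_homologyπ (a - 1) a (by simp) (hd _ _)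
      exact P.prop_of_iso ((asIso (E.iCycles a)).symm ≪≫ asIso (E.homologyπ a)) (hE.1 a)
    have hHX : P ((DerivedCategory.homologyFunctor C a).obj X) :=
      mem_of_retract hdir ((DerivedCategory.homologyFunctor C a).map i)
        ((DerivedCategory.homologyFunctor C a).map r)
        (by rw [← Functor.map_comp, hir, CategoryTheory.Functor.map_id]) (P.prop_of_iso e'.symm hH)
    obtain ⟨e₁⟩ := exists_single_iso X a hzero
    exact (amp_single a hHX).of_iso e₁
  | succ n ih =>
    intro a b hab X Y i r hir hY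
    have hYz : ∀ j, b < j → IsZero ((DerivedCategory.homologyFunctor C j).obj Y) := fun j hj =>
      hY.isZero_homology j (Or.inr hj)
    have hXz : ∀ j, b < j → IsZero ((DerivedCategory.homologyFunctor C j).obj X) := fun j hj => by
      haveI : IsSplitMono ((DerivedCategory.homologyFunctor C j).map i) :=
        IsSplitMono.mk' ⟨(DerivedCategory.homologyFunctor C j).map r,
          by rw [← Functor.map_comp, hir, CategoryTheory.Functor.map_id]⟩
      exact IsZero.of_mono ((DerivedCategory.homologyFunctor C j).map i) (hYz j hj)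
    obtain ⟨E, hE, ⟨e⟩⟩ := id hY
    let S₀ := (HomologicalComplex.single C (ComplexShape.up ℤ) b).obj (E.X b)
    let σ₀ : S₀ ⟶ E := mkHomFromSingle (𝟙 (E.X b)) (fun j hj =>
      (hE.2 j (by simp at hj; omega)).eq_of_tgt _ _)
    let S := DerivedCategory.Q.obj S₀
    have hS : Amp P b b S := amp_single b (hE.1 b)
    let σ : S ⟶ Y := DerivedCategory.Q.map σ₀ ≫ e.hom
    have hσ : Epi ((DerivedCategory.homologyFunctor C b).map σ) := by
      have h₁ : Epi (homologyMap σ₀ b) := by
        haveI : IsIso (σ₀.f b) := by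
          rw [mkHomFromSingle_f]; infer_instance
        haveI := E.isIso_iCycles b (b + 1) (by simp) ((hE.2 (b + 1) (by omega)).eq_of_tgt _ _)
        haveI := S₀.isIso_iCycles b (b + 1) (by simp)
          ((isZero_single_obj_X _ b (E.X b) (b + 1) (by omega)).eq_of_tgt _ _)
        have hc : cyclesMap σ₀ b = (S₀.iCycles b ≫ σ₀.f b) ≫ inv (E.iCycles b) := by
          rw [← cyclesMap_i, Category.assoc, IsIso.hom_inv_id, Category.comp_id]
        haveI : Epi (cyclesMap σ₀ b) := by rw [hc]; infer_instance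
        exact epi_of_epi_fac (homologyπ_naturality σ₀ b)
      haveI : Epi ((DerivedCategory.homologyFunctor C b).map (DerivedCategory.Q.map σ₀)) := by
        have := NatIso.naturality_2 (DerivedCategory.homologyFunctorFactors C b) σ₀
        dsimp at this
        rw [← this]
        exact epi_comp' inferInstance (epi_comp' h₁ inferInstance)
      rw [Functor.map_comp]
      exact epi_comp' this inferInstance
    let q : S ⟶ X := σ ≫ r
    obtain ⟨X₁, g, h₁, hT₁⟩ := distinguished_cocone_triangle q
    let p : S ⊞ S ⟶ Y := biprod.desc (q ≫ i) (σ - q ≫ i)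
    obtain ⟨Z, g', h', hT'⟩ := distinguished_cocone_triangle p
    have hp : (biprod.lift (𝟙 S) (𝟙 S)) ≫ p = σ := by simp [p]
    have hZ : Amp P a b Z := Amp.cone h _ hT' (hS.biprod h hS) hY a b (by omega) le_rfl
      (by omega) le_rfl
    have hepi : Epi ((DerivedCategory.homologyFunctor C b).map p) := by
      have := congrArg (DerivedCategory.homologyFunctor C b).map hp
      rw [Functor.map_comp] at this
      exact epi_of_epi_fac this
    have hZb : IsZero ((DerivedCategory.homologyFunctor C b).obj Z) := by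
      have h₂ := (DerivedCategory.HomologySequence.epi_homologyMap_mor₁_iff _ hT' b).1 hepi
      refine (DerivedCategory.HomologySequence.exact₃ _ hT' b (b + 1) rfl).isZero_X₂ h₂ ?_
      exact ((hS.biprod h hS).isZero_homology (b + 1) (by omega)).eq_of_tgt _ _
    obtain ⟨E₁, hE₁, ⟨eZ⟩⟩ := hZ
    obtain ⟨E₂, hE₂, ⟨eZ₂⟩⟩ := exists_trunc h (b - 1) (by omega) hE₁ (fun j hj => by
      obtain ⟨e'⟩ := homology_iso eZ j
      refine IsZero.of_iso ?_ e'.symm
      by_cases hjb : j = b
      · subst hjb; exact hZb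
      · exact Amp.isZero_homology (show Amp P a b Z from ⟨E₁, hE₁, ⟨eZ⟩⟩) j (by omega))
    rw [min_eq_left (by omega)] at hE₂
    have hZ' : Amp P a (b - 1) Z := ⟨E₂, hE₂, ⟨eZ₂ ≪≫ eZ⟩⟩
    let φ : Triangle.mk q g h₁ ⟶ Triangle.mk p g' h' :=
      completeDistinguishedTriangleMorphism _ _ hT₁ hT' biprod.inl i (biprod.inl_desc _ _).symm
    let ψ : Triangle.mk p g' h' ⟶ Triangle.mk q g h₁ :=
      completeDistinguishedTriangleMorphism _ _ hT' hT₁ biprod.fst r (by
        change p ≫ r = biprod.fst ≫ q
        apply biprod.hom_ext' <;> simp [p, q, hir])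
    haveI hiso : IsIso (φ ≫ ψ).hom₃ := by
      refine isIso₃_of_isIso₁₂ _ hT₁ hT₁ ?_ ?_
      · change IsIso (biprod.inl ≫ biprod.fst : S ⟶ S)
        rw [biprod.inl_fst]; infer_instance
      · change IsIso (i ≫ r)
        rw [hir]; infer_instance
    have hX₁ : Amp P a (b - 1) X₁ :=
      ih a (b - 1) (by push_cast at hab; omega) X₁ Z φ.hom₃ (ψ.hom₃ ≫ @inv _ _ _ _ (φ ≫ ψ).hom₃ hiso)
        (by rw [← Category.assoc]; exact @IsIso.hom_inv_id _ _ _ _ (φ ≫ ψ).hom₃ hiso) hZ'
    exact Amp.cone h _ (inv_rot_of_distTriang _ hT₁) (hX₁.shift (-1) (a + 1) b (by omega) (by omega))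
      hS a b (by omega) (by omega) (by omega) le_rfl

end PStrictLib
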